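import Groth.Agent.L28.TorFacts
import Groth.Prelude.Def_DRing2
import Groth.Agent.L10.DRing.TorDim

/-!
# Dimension shifting for Tor dimension
-/

set_option autoImplicit false
set_option linter.all false

universe u

open CategoryTheory CategoryTheory.Limits MonoidalCategory TensorProduct

namespace Groth.L05.TorShift

variable {A : Type u} [CommRing A]

theorem hasTorDimLE_succ_iff {K F M : Type u} [AddCommGroup K] [Module A K] [AddCommGroup F] [Module A F]
    [AddCommGroup M] [Module A M] [Module.Flat A F] (ι : K →ₗ[A] F) (g : F →ₗ[A] M)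
    (hι : Function.Injective ι) (hg : Function.Surjective g) (hex : Function.Exact ι g) (d : ℕ) :
    DRing.HasTorDimLE A (d + 1) M ↔ DRing.HasTorDimLE A d K := by
  let R := projectiveResolution (ModuleCat.of A K)
  have hR := Groth.L28.Balance.isRes_projectiveResolution R
  let X : ℕ → ModuleCat.{u} A := fun
    | 0 => ModuleCat.of A F
    | j + 1 => R.complex.X j
  let π₀ : R.complex.X 0 →ₗ[A] K := (R.π.f 0).hom
  let D : ∀ j, X (j + 1) ⟶ X j := fun
    | 0 => ModuleCat.ofHom (ι ∘ₗ π₀)
    | j + 1 => R.complex.d (j + 1) j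
  let C : ChainComplex (ModuleCat.{u} A) ℕ := ChainComplex.of X D (fun j => by
    cases j with
    | zero =>
      refine ModuleCat.hom_ext (LinearMap.ext fun x => ?_)
      show ι (π₀ ((R.complex.d 1 0).hom x)) = 0
      rw [show π₀ ((R.complex.d 1 0).hom x) = 0 from (hR.exact₀ _).mpr ⟨x, rfl⟩, map_zero]
    | succ j => exact R.complex.d_comp_d (j + 2) (j + 1) j)
  have hd : ∀ j, C.d (j + 1) j = D j := fun j => by
    dsimp [C]
    rw [ChainComplex.of_d]
  have hC : Groth.L28.Balance.IsRes C (ModuleCat.ofHom g : C.X 0 ⟶ ModuleCat.of A M) := by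
    refine ⟨hg, ?_, fun n => ?_, fun n => ?_⟩
    · rw [hd]
      intro x
      show g x = 0 ↔ x ∈ Set.range (ι ∘ₗ π₀)
      rw [hex x]
      exact ⟨fun ⟨k, hk⟩ => by
        obtain ⟨r, hr⟩ := hR.surj k
        exact ⟨r, by rw [LinearMap.comp_apply, ← hk]; exact congrArg ι hr⟩, fun ⟨r, hr⟩ => ⟨π₀ r, hr⟩⟩
    · rw [hd, hd]
      cases n with
      | zero =>
        intro x
        show ι (π₀ x) = 0 ↔ x ∈ Set.range (R.complex.d 1 0).hom
        rw [← map_zero ι, hι.eq_iff]
        exact hR.exact₀ x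
      | succ m => exact hR.exact m
    · cases n with
      | zero => exact ‹Module.Flat A F›
      | succ m => exact hR.flat m
  have key : ∀ (j : ℕ) (N : ModuleCat.{u} A),
      IsZero (((CategoryTheory.Tor (ModuleCat.{u} A) (j + 2)).obj (ModuleCat.of A M)).obj N) ↔
      IsZero (((CategoryTheory.Tor (ModuleCat.{u} A) (j + 1)).obj (ModuleCat.of A K)).obj N) := by
    intro j N
    obtain ⟨e⟩ := Groth.L28.TorFacts.nonempty_iso_left (N := N) C _ hC (j + 2)
    obtain ⟨e'⟩ := Groth.L28.TorFacts.nonempty_iso_left (M := ModuleCat.of A K) (N := N) R.complex (R.π.f 0) hR (j + 1)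
    rw [e.isZero_iff, e'.isZero_iff,
      Groth.L28.HomElt.isZero_homology_iff (i := j + 3) (k := j + 1)
        ((ComplexShape.down ℕ).prev_eq' rfl) ((ComplexShape.down ℕ).next_eq' rfl),
      Groth.L28.HomElt.isZero_homology_iff (i := j + 2) (k := j)
        ((ComplexShape.down ℕ).prev_eq' rfl) ((ComplexShape.down ℕ).next_eq' rfl)]
    simp only [Functor.mapHomologicalComplex_obj_d]
    rw [hd (j + 2), hd (j + 1)]
    exact Iff.rfl
  constructor
  · intro h N _ _ p hp
    obtain ⟨j, rfl⟩ : ∃ j, p = j + 1 := ⟨p - 1, by omega⟩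
    haveI := h N (j + 2) (by omega)
    exact ModuleCat.subsingleton_of_isZero
      ((key j (ModuleCat.of A N)).mp (ModuleCat.isZero_of_subsingleton _))
  · intro h N _ _ p hp
    obtain ⟨j, rfl⟩ : ∃ j, p = j + 2 := ⟨p - 2, by omega⟩
    haveI := h N (j + 1) (by omega)
    exact ModuleCat.subsingleton_of_isZero
      ((key j (ModuleCat.of A N)).mpr (ModuleCat.isZero_of_subsingleton _))

end Groth.L05.TorShift
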